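import Groth.Agent.GrpEasyLib.Basic
import Groth.Agent.ASp.Fpqc

/-! Descent along quotient maps of group schemes, torsors, saturation of open sets. -/

set_option autoImplicit false
set_option linter.style.haveILetI false

universe v w u

open CategoryTheory MonoidalCategory CartesianMonoidalCategory MonObj AlgebraicGeometry Limits

noncomputable section

namespace Groth.Agent.GrpEasyLib

variable {S : Scheme.{u}} {A B Z : Over S}

theorem isPullback_whiskerRight (q : A ⟶ B) :
    IsPullback (q ▷ Z).left (fst A Z).left (fst B Z).left q.left := by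
  refine IsPullback.of_right ?_ ?_ (GrpSchLib.isPullback_fst_snd (T := B) (G := Z)).flip
  · rw [← Over.comp_left, whiskerRight_snd, Over.w q]
    exact (GrpSchLib.isPullback_fst_snd (T := A) (G := Z)).flip
  · rw [← Over.comp_left, ← Over.comp_left, whiskerRight_fst]

theorem isPullback_whiskerLeft (q : A ⟶ B) :
    IsPullback (Z ◁ q).left (snd Z A).left (snd Z B).left q.left := by
  refine IsPullback.of_right ?_ ?_ (GrpSchLib.isPullback_fst_snd (T := Z) (G := B))
  · rw [← Over.comp_left, whiskerLeft_fst, Over.w q]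
    exact GrpSchLib.isPullback_fst_snd (T := Z) (G := A)
  · rw [← Over.comp_left, ← Over.comp_left, whiskerLeft_snd]

theorem exists_desc {G Q K : Over S} (q : G ⟶ Q) [EffectiveEpi q.left] (f : G ⟶ K)
    (h : ∀ (T : Over S) (a b : T ⟶ G), a ≫ q = b ≫ q → a ≫ f = b ≫ f) : ∃ g : Q ⟶ K, q ≫ g = f := by
  let g := EffectiveEpi.desc q.left f.left fun {W} a b hab => by
    have hb : b ≫ G.hom = a ≫ G.hom := by rw [← Over.w q, ← Category.assoc, ← hab, Category.assoc]
    exact congrArg CommaMorphism.left
      (h (Over.mk (a ≫ G.hom)) (Over.homMk a rfl) (Over.homMk b hb) (by ext1; exact hab))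
  have hg : q.left ≫ g = f.left := EffectiveEpi.fac _ _ _
  refine ⟨Over.homMk g ?_, by ext1; exact hg⟩
  rw [← cancel_epi q.left, ← Category.assoc, hg, Over.w f, Over.w q]

theorem epi_of_left {G Q : Over S} (q : G ⟶ Q) [Epi q.left] : Epi q :=
  (Over.forget S).epi_of_epi_map (inferInstanceAs (Epi q.left))

/-- A morphism under which a homomorphism descends is a homomorphism. -/
theorem isMonHom_of_fac {G Q K : Over S} [GrpObj G] [GrpObj Q] [GrpObj K] (q : G ⟶ Q) [IsMonHom q]
    (f : G ⟶ K) [IsMonHom f] (g : Q ⟶ K) (hg : q ≫ g = f)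
    [Epi (q ▷ G).left] [Epi (Q ◁ q).left] : IsMonHom g where
  one_hom := by rw [← IsMonHom.one_hom q, Category.assoc, hg, IsMonHom.one_hom]
  mul_hom := by
    haveI := epi_of_left (q ▷ G)
    haveI := epi_of_left (Q ◁ q)
    rw [← cancel_epi (Q ◁ q), ← cancel_epi (q ▷ G)]
    rw [← MonoidalCategory.tensorHom_def_assoc, ← MonoidalCategory.tensorHom_def_assoc,
      ← reassoc_of% (IsMonHom.mul_hom q), hg, IsMonHom.mul_hom f, ← Category.assoc,
      MonoidalCategory.tensorHom_comp_tensorHom, hg]

theorem surjective_whiskerRight (q : A ⟶ B) (h : Surjective q.left) : Surjective (q ▷ Z).left :=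
  MorphismProperty.of_isPullback (isPullback_whiskerRight q).flip h

theorem surjective_whiskerLeft (q : A ⟶ B) (h : Surjective q.left) : Surjective (Z ◁ q).left :=
  MorphismProperty.of_isPullback (isPullback_whiskerLeft q).flip h

/-- The saturation of an open set under an action is stable. -/
theorem image_stable {G X : Over S} [GrpObj G] (a : AlgGrp.Action G X) (U : Set X.left) :
    a.act.left '' ((snd G X).left ⁻¹' (a.act.left '' ((snd G X).left ⁻¹' U))) ⊆
      a.act.left '' ((snd G X).left ⁻¹' U) := by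
  rintro _ ⟨p, ⟨q, hq, hpq⟩, rfl⟩
  obtain ⟨r, hr1, hr2⟩ := Scheme.exists_preimage_of_isPullback
    (isPullback_whiskerLeft (Z := G) a.act) p q hpq.symm
  refine ⟨((α_ G G X).inv ≫ (μ[G] ▷ X)).left r, ?_, ?_⟩
  · show (snd G X).left (((α_ G G X).inv ≫ (μ[G] ▷ X)).left r) ∈ U
    rw [← Scheme.Hom.comp_apply, ← Over.comp_left]
    have e : ((α_ G G X).inv ≫ (μ[G] ▷ X)) ≫ snd G X = snd G (G ⊗ X) ≫ snd G X := by simp
    rw [e, Over.comp_left, Scheme.Hom.comp_apply, hr2]
    exact hq
  · rw [← Scheme.Hom.comp_apply, ← Over.comp_left, Category.assoc, a.mul_act, Iso.inv_hom_id_assoc,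
      Over.comp_left, Scheme.Hom.comp_apply, hr1]

/-- A formally principal homogeneous space with a point over a cover inherits descending properties. -/
theorem prop_of_point {G X S' : Over S} [GrpObj G] (a : AlgGrp.Action G X)
    (hX : IsIso (lift a.act (snd G X))) (P Q : MorphismProperty Scheme.{u})
    [P.RespectsIso] [P.IsStableUnderBaseChange] [P.DescendsAlong Q] (x₀ : S' ⟶ X)
    (hQ : Q S'.hom) (hG : P G.hom) : P X.hom := by
  let d : X ⊗ X ⟶ G := inv (lift a.act (snd G X)) ≫ fst G X
  have hd1 : ∀ {T : Over S} (g : T ⟶ G) (x : T ⟶ X), lift (lift g x ≫ a.act) x ≫ d = g := by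
    intro T g x
    have e : lift g x ≫ lift a.act (snd G X) = lift (lift g x ≫ a.act) x := by simp
    simp only [d]
    rw [← e, Category.assoc, IsIso.hom_inv_id_assoc, lift_fst]
  have hd2 : ∀ {T : Over S} (x y : T ⟶ X), lift (lift x y ≫ d) y ≫ a.act = x := by
    intro T x y
    have e2 : inv (lift a.act (snd G X)) ≫ snd G X = snd X X := by simp [IsIso.inv_comp_eq]
    have e1 : inv (lift a.act (snd G X)) ≫ a.act = fst X X := by simp [IsIso.inv_comp_eq]
    have e : lift (lift x y ≫ d) y = lift x y ≫ inv (lift a.act (snd G X)) := by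
      apply CartesianMonoidalCategory.hom_ext
      · simp [d]
      · simp [e2]
    rw [e, Category.assoc, e1, lift_fst]
  let φ : S' ⊗ G ⟶ S' ⊗ X := lift (fst S' G) (lift (snd S' G) (fst S' G ≫ x₀) ≫ a.act)
  let ψ : S' ⊗ X ⟶ S' ⊗ G := lift (fst S' X) (lift (snd S' X) (fst S' X ≫ x₀) ≫ d)
  haveI : IsIso φ := by
    refine ⟨ψ, ?_, ?_⟩
    · apply CartesianMonoidalCategory.hom_ext
      · simp [φ, ψ]
      · simp only [φ, ψ, Category.assoc, lift_snd, comp_lift_assoc, lift_fst_assoc, Category.id_comp]
        exact hd1 _ _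
    · apply CartesianMonoidalCategory.hom_ext
      · simp [φ, ψ]
      · simp only [φ, ψ, Category.assoc, lift_snd, comp_lift_assoc, lift_fst_assoc, Category.id_comp]
        exact hd2 _ _
  haveI : IsIso φ.left := inferInstanceAs (IsIso ((Over.forget _).map φ))
  have h1 : P (fst S' G).left :=
    MorphismProperty.of_isPullback (GrpSchLib.isPullback_fst_snd (T := S') (G := G)).flip hG
  have e : φ.left ≫ (fst S' X).left = (fst S' G).left := by rw [← Over.comp_left, lift_fst]
  rw [← e, P.cancel_left_of_respectsIso] at h1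
  exact MorphismProperty.of_isPullback_of_descendsAlong
    (GrpSchLib.isPullback_fst_snd (T := S') (G := X)) hQ h1

end Groth.Agent.GrpEasyLib
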