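import Groth.Prelude.Def_AlgGrp
import Groth.Agent.GrpSchLib.Basic
import Groth.Agent.FlatLocus.SmoothFibres
import Mathlib

/-! Elementary facts on group schemes and their actions. -/

set_option autoImplicit false
set_option linter.style.haveILetI false

universe v w u

open CategoryTheory MonoidalCategory CartesianMonoidalCategory MonObj AlgebraicGeometry Limits

noncomputable section

namespace Groth.Agent.GrpEasyLib

section General

variable {C : Type w} [Category.{v} C] [CartesianMonoidalCategory C] (G : C) [GrpObj G]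

/-- `(x, y) ↦ x y⁻¹`. -/
abbrev divMap : G ⊗ G ⟶ G := fst G G * (snd G G)⁻¹

theorem isPullback_diag_one : IsPullback (lift (𝟙 G) (𝟙 G)) (toUnit G) (divMap G) η[G] := by
  have hc : ∀ {T : C} (a : T ⟶ G ⊗ G) (t : T ⟶ 𝟙_ C), a ≫ divMap G = t ≫ η[G] →
      a ≫ fst G G = a ≫ snd G G := by
    intro T a t h
    rw [MonObj.comp_mul, GrpObj.comp_inv, toUnit_unique t (toUnit T), ← Hom.one_def] at h
    exact mul_inv_eq_one.1 h
  refine ⟨⟨?_⟩, ⟨PullbackCone.IsLimit.mk _ (fun s => s.fst ≫ fst G G) (fun s => ?_) (fun s => toUnit_unique _ _)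
    (fun s m h _ => ?_)⟩⟩
  · rw [MonObj.comp_mul, GrpObj.comp_inv, lift_fst, lift_snd, mul_inv_cancel, ← Hom.one_def]
  · apply CartesianMonoidalCategory.hom_ext
    · rw [Category.assoc, lift_fst, Category.comp_id]
    · rw [Category.assoc, lift_snd, Category.comp_id]
      exact hc s.fst s.snd s.condition
  · rw [← h, Category.assoc, lift_fst, Category.comp_id]

theorem isPullback_one_diag :
    IsPullback η[G] η[G] (lift (𝟙 G) (toUnit G ≫ η[G])) (lift (𝟙 G) (𝟙 G)) := by
  have hc : ∀ {T : C} (a b : T ⟶ G), a ≫ lift (𝟙 G) (toUnit G ≫ η[G]) = b ≫ lift (𝟙 G) (𝟙 G) →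
      a = b ∧ toUnit T ≫ η[G] = b := by
    intro T a b h
    refine ⟨by simpa using congrArg (· ≫ fst G G) h, ?_⟩
    have h2 := congrArg (· ≫ snd G G) h
    simp only [Category.assoc, lift_snd, Category.comp_id] at h2
    rwa [← Category.assoc, toUnit_unique (a ≫ toUnit G) (toUnit T)] at h2
  refine ⟨⟨?_⟩, ⟨PullbackCone.IsLimit.mk _ (fun s => toUnit s.pt) (fun s => ?_) (fun s => ?_)
    (fun s m _ _ => toUnit_unique _ _)⟩⟩
  · apply CartesianMonoidalCategory.hom_ext
    · simp
    · simp only [Category.assoc, lift_snd, Category.comp_id]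
      rw [← Category.assoc, toUnit_unique (η[G] ≫ toUnit G) (𝟙 _), Category.id_comp]
  · obtain ⟨h1, h2⟩ := hc s.fst s.snd s.condition
    rw [h2, h1]
  · exact (hc s.fst s.snd s.condition).2

variable {G} {X : C} (a : G ⊗ X ⟶ X) (h1 : (η[G] ▷ X) ≫ a = (λ_ X).hom)
  (hm : (μ[G] ▷ X) ≫ a = (α_ G G X).hom ≫ (G ◁ a) ≫ a)

include hm in
theorem act_mul {T : C} (g g' : T ⟶ G) (x : T ⟶ X) :
    lift (g * g') x ≫ a = lift g (lift g' x ≫ a) ≫ a := by
  have h := congrArg (lift (lift g g') x ≫ ·) hm
  simpa [Hom.mul_def] using h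

include h1 in
theorem act_one {T : C} (x : T ⟶ X) : lift 1 x ≫ a = x := by
  have h := congrArg (lift (toUnit T) x ≫ ·) h1
  simpa [Hom.one_def] using h

include h1 hm in
/-- The shear `(g, x) ↦ (g, g x)` of an action. -/
theorem exists_shear : ∃ e : G ⊗ X ≅ G ⊗ X, e.hom ≫ snd G X = a := by
  refine ⟨⟨lift (fst G X) a, lift (fst G X) (lift (fst G X)⁻¹ (snd G X) ≫ a), ?_, ?_⟩, lift_snd _ _⟩
  · apply CartesianMonoidalCategory.hom_ext
    · simp
    · simp only [Category.assoc, lift_snd, comp_lift_assoc, GrpObj.comp_inv, lift_fst, Category.id_comp]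
      nth_rewrite 1 [show a = lift (fst G X) (snd G X) ≫ a by simp]
      rw [← act_mul a hm, inv_mul_cancel, act_one a h1]
  · apply CartesianMonoidalCategory.hom_ext
    · simp
    · simp only [Category.assoc, lift_snd, Category.id_comp]
      nth_rewrite 2 [show a = lift (fst G X) (snd G X) ≫ a by simp]
      rw [comp_lift_assoc, lift_fst, lift_snd, ← act_mul a hm, mul_inv_cancel, act_one a h1]

end General

variable {S : Scheme.{u}} {G X : Over S} [GrpObj G]

theorem action_prop (a : AlgGrp.Action G X) (P : MorphismProperty Scheme.{u}) [P.RespectsIso]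
    [P.IsStableUnderBaseChange] (h : P G.hom) : P a.act.left := by
  obtain ⟨e, he⟩ := exists_shear a.act a.one_act a.mul_act
  rw [← he, Over.comp_left]
  haveI : IsIso e.hom.left := inferInstanceAs (IsIso ((Over.forget _).map e.hom))
  rw [P.cancel_left_of_respectsIso]
  exact MorphismProperty.of_isPullback GrpSchLib.isPullback_fst_snd h

variable (G)

theorem diag_left : (lift (𝟙 G) (𝟙 G)).left = pullback.diagonal G.hom := by
  apply pullback.hom_ext
  · rw [pullback.diagonal_fst]
    exact congrArg CommaMorphism.left (lift_fst (𝟙 G) (𝟙 G))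
  · rw [pullback.diagonal_snd]
    exact congrArg CommaMorphism.left (lift_snd (𝟙 G) (𝟙 G))

/-- A group scheme locally of finite type is unramified iff its unit is an open immersion. -/
theorem formallyUnramified_iff [LocallyOfFiniteType G.hom] :
    FormallyUnramified G.hom ↔ IsOpenImmersion η[G].left := by
  constructor
  · intro h
    haveI : IsOpenImmersion (lift (𝟙 G) (𝟙 G)).left := by rw [diag_left]; infer_instance
    exact MorphismProperty.of_isPullback (P := @IsOpenImmersion)
      ((isPullback_one_diag G).map (Over.forget S)).flip this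
  · intro h
    haveI : IsOpenImmersion (pullback.diagonal G.hom) := by
      rw [← diag_left]
      exact MorphismProperty.of_isPullback (P := @IsOpenImmersion)
        ((isPullback_diag_one G).map (Over.forget S)).flip h
    infer_instance

theorem isIso_hom_iff [LocallyOfFiniteType G.hom] :
    IsIso G.hom ↔ ∀ s : S, IsIso (G.hom.fiberToSpecResidueField s) := by
  constructor
  · intro h s
    exact MorphismProperty.pullback_snd (P := MorphismProperty.isomorphisms Scheme.{u}) _ _ h
  · intro h
    haveI : FormallyUnramified G.hom := FlatLocus.formallyUnramified_of_fibres G.hom fun s => by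
      haveI := h s; infer_instance
    haveI := (formallyUnramified_iff G).1 ‹_›
    haveI : Surjective η[G].left := ⟨fun x => by
      let s := G.hom x
      have hs : η[G].left s ∈ Set.range (G.hom.fiberι s) := by
        rw [Scheme.Hom.range_fiberι]
        show G.hom (η[G].left s) = s
        rw [← Scheme.Hom.comp_apply, Over.w η[G]]
        rfl
      have hx : x ∈ Set.range (G.hom.fiberι s) := by rw [Scheme.Hom.range_fiberι]; rfl
      obtain ⟨p, hp⟩ := hs
      obtain ⟨q, hq⟩ := hx
      haveI := h s
      have hpq : p = q := (Scheme.Hom.homeomorph (G.hom.fiberToSpecResidueField s)).injective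
        (Subsingleton.elim _ _)
      exact ⟨s, by rw [← hq, ← hpq, hp]⟩⟩
    haveI : IsIso η[G].left := (isIso_iff_isOpenImmersion_and_epi_base _).mpr
      ⟨inferInstance, (TopCat.epi_iff_surjective _).mpr η[G].left.surjective⟩
    have e : η[G].left ≫ G.hom = 𝟙 S := Over.w η[G]
    haveI : IsIso (η[G].left ≫ G.hom) := by rw [e]; exact inferInstanceAs (IsIso (𝟙 S))
    exact IsIso.of_isIso_comp_left η[G].left G.hom

/-- A homomorphism from a group scheme with connected fibres to an etale separated group scheme is trivial. -/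
theorem hom_eq_one {P X : Over S} [GrpObj P] [GrpObj X] [Etale X.hom] [IsSeparated X.hom]
    (hP : ∀ s : S, ConnectedSpace ↥(P.hom.fiber s)) (f : P ⟶ X) [IsMonHom f] : f = 1 := by
  haveI : IsOpenImmersion η[X].left := (formallyUnramified_iff X).1 inferInstance
  haveI : IsClosedImmersion η[X].left := by
    haveI : IsClosedImmersion (η[X].left ≫ X.hom) := by
      rw [Over.w η[X]]; exact inferInstanceAs (IsClosedImmersion (𝟙 S))
    exact IsClosedImmersion.of_comp η[X].left X.hom
  have hsub : Set.range f.left ⊆ Set.range η[X].left := by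
    rintro _ ⟨p, rfl⟩
    let s := P.hom p
    haveI := hP s
    let Z : Set (P.hom.fiber s) := (P.hom.fiberι s ≫ f.left) ⁻¹' Set.range η[X].left
    have hZ : IsClopen Z :=
      ⟨η[X].left.isClosedEmbedding.isClosed_range.preimage (Scheme.Hom.continuous _),
        η[X].left.isOpenEmbedding.isOpen_range.preimage (Scheme.Hom.continuous _)⟩
    have hs : η[P].left s ∈ Set.range (P.hom.fiberι s) := by
      rw [Scheme.Hom.range_fiberι]
      show P.hom (η[P].left s) = s
      rw [← Scheme.Hom.comp_apply, Over.w η[P]]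
      rfl
    obtain ⟨z, hz⟩ := hs
    have hne : Z.Nonempty := ⟨z, by
      refine ⟨s, ?_⟩
      refine (((Scheme.Hom.comp_apply _ _ _).trans (congrArg f.left hz)).trans ?_).symm
      show (η[P].left ≫ f.left) s = _
      rw [← Over.comp_left, IsMonHom.one_hom]⟩
    obtain ⟨q, hq⟩ : p ∈ Set.range (P.hom.fiberι s) := by rw [Scheme.Hom.range_fiberι]; rfl
    have hq' : q ∈ Z := by rw [hZ.eq_univ hne]; trivial
    obtain ⟨t, ht⟩ := hq'
    exact ⟨t, by rw [ht, Scheme.Hom.comp_apply, hq]⟩
  let l : P ⟶ 𝟙_ (Over S) := Over.homMk (IsOpenImmersion.lift η[X].left f.left hsub) (by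
    have h0 : IsOpenImmersion.lift η[X].left f.left hsub ≫ η[X].left = f.left :=
      IsOpenImmersion.lift_fac _ _ _
    exact ((congrArg (IsOpenImmersion.lift η[X].left f.left hsub ≫ ·) (Over.w η[X])).symm.trans
      ((Category.assoc _ _ _).symm.trans (congrArg (· ≫ X.hom) h0))).trans (Over.w f))
  have hl : l ≫ η[X] = f := by ext1; exact IsOpenImmersion.lift_fac _ _ _
  rw [← hl, toUnit_unique l (toUnit P), Hom.one_def]

end Groth.Agent.GrpEasyLib
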